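import Groth.Agent.TorLib.Basic
import Groth.Agent.TFOneX.Basic
import Groth.Agent.QCoh.LocFree
import Groth.Agent.QCoh.Qcqs
import Groth.Agent.QCoh.Support
import Groth.Agent.KFlatLib.Perfect.Spread
import Groth.Agent.H23.PullPush
import Groth.Agent.H23.FinCondSch
import Groth.Agent.Nrm6.PMod
import Groth.Agent.ZClosLib.CohDescent
import Groth.Agent.CurveCohLib.SubBundle
import Groth.Agent.CurveCM.H0Field
import Groth.Agent.NormGeomReg.Dim
import Groth.Agent.CurveGor.DeltaScheme
import Groth.Prelude.Def_ShStab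

/-!
# Sheaves on curves inside direct images of bundles on the normalisation
-/

set_option autoImplicit false
set_option linter.style.haveILetI false
set_option linter.unusedSectionVars false
set_option backward.isDefEq.respectTransparency false
set_option backward.isDefEq.respectTransparency.types false
set_option maxHeartbeats 1000000

universe u

open CategoryTheory CategoryTheory.Limits AlgebraicGeometry TopologicalSpace Opposite IsLocalRing

noncomputable section

namespace Groth.Agent.CurvePure22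

open Groth.Agent
open Groth.Agent.TFOneX (sm)

variable {Y : Scheme.{u}}

theorem isField_stalk_of_generic [IsLocallyNoetherian Y] {η : Y} [IsDomain (Y.presheaf.stalk η)]
    (h : ∀ y : Y, y ⤳ η → y = η) : IsField (Y.presheaf.stalk η) := by
  haveI : Ring.KrullDimLE 0 (Y.presheaf.stalk η) :=
    Ring.krullDimLE_iff.2 (CurveCM.ringKrullDim_stalk_le_zero η h)
  exact Ring.KrullDimLE.isField_of_isDomain

theorem germ_eq_zero_of_integral {O : Y.Opens} [IsIntegral O.toScheme] {V : Y.Opens} (hV : V ≤ O) {y z : Y}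
    (hy : y ∈ V) (hz : z ∈ V) (a : Γ(Y, V)) (ha : Y.presheaf.germ V z hz a = 0) :
    Y.presheaf.germ V y hy a = 0 := by
  have h1 : O.ι.app V a = 0 := by
    refine germ_injective_of_isIntegral O.toScheme ⟨z, hV hz⟩ hz ?_
    rw [map_zero, ← Scheme.Hom.germ_stalkMap_apply O.ι V ⟨z, hV hz⟩ hz a]
    exact (congrArg (O.ι.stalkMap ⟨z, hV hz⟩) ha).trans (map_zero _)
  refine (ConcreteCategory.bijective_of_isIso (O.ι.stalkMap ⟨y, hV hy⟩)).1 ?_
  refine ((Scheme.Hom.germ_stalkMap_apply O.ι V ⟨y, hV hy⟩ hy a).trans ?_).trans (map_zero _).symm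
  rw [h1, map_zero]

theorem free_of_chart {G : Y.Modules} (hG : Coh.IsQCoh G) {U : Y.Opens} {n : ℕ} {z : Y} (hz : z ∈ U)
    (e : G.restrict U.ι ≅ FlatMod.freeMod (U : Scheme.{u}) n) :
    Module.Free (Y.presheaf.stalk z) (G.presheaf.stalk z) := by
  obtain ⟨_, ⟨V, hV, rfl⟩, hzV, hle⟩ := Y.isBasis_affineOpens.exists_subset_of_mem_open hz U.2
  obtain ⟨l⟩ := QCoh.free_sections hV hle e
  have : Module.Free Γ(Y, V) Γ(G, V) := Module.Free.of_equiv l.symm
  letI := QCoh.stalkAlg (X := Y) hzV
  letI := QCoh.stalkModule G hzV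
  haveI := QCoh.isScalarTower_stalk G hzV
  haveI := QCoh.isLocalization_stalk' hV hzV
  haveI := QCoh.isLocalizedModule_germLin hG hV hzV
  exact Module.free_of_isLocalizedModule (hV.primeIdealOf ⟨z, hzV⟩).asIdeal.primeCompl (QCoh.germLin G hzV)

/-- On a normal noetherian scheme with principal local rings, a coherent module has a locally free
quotient agreeing with it on the generic points. -/
theorem exists_tf_quotient [IsNoetherian Y] (hY : Pi1.IsNormalScheme Y)
    (hpir : ∀ y : Y, IsPrincipalIdealRing (Y.presheaf.stalk y)) {G : Y.Modules} (hG : Coh.IsCoh G) :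
    ∃ (G' : Y.Modules) (q : G ⟶ G'), Epi q ∧ Coh.IsCoh G' ∧ FlatMod.IsFinLocFree G' ∧
      ∃ W : Y.Opens, (∀ η : Y, (∀ y, y ⤳ η → y = η) → η ∈ W) ∧
        ∀ y ∈ W, Function.Injective (sm q y) := by
  classical
  have hfp : CohB1.IsFP G := QCoh.isCoh_iff_isFP.1 hG
  let W : Y.Opens := ⟨{y | Module.Free (Y.presheaf.stalk y) (G.presheaf.stalk y)}, by
    refine isOpen_iff_forall_mem_open.2 fun y hy => ?_
    haveI : Module.Free (Y.presheaf.stalk y) (G.presheaf.stalk y) := hy
    obtain ⟨U, n, hyU, ⟨e⟩⟩ := QCoh.exists_free_nhd_of_free_stalk hfp y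
    refine ⟨U, fun z hz => ?_, U.2, hyU⟩
    exact free_of_chart hG.1 hz e⟩
  have hWgen : ∀ η : Y, (∀ y, y ⤳ η → y = η) → η ∈ W := fun η hη => by
    haveI := (hY η).1
    letI := (isField_stalk_of_generic hη).toField
    exact Module.Free.of_divisionRing (Y.presheaf.stalk η) (G.presheaf.stalk η)
  haveI : QuasiCompact W.ι := inferInstance
  let P := (Scheme.Modules.pushforward W.ι).obj (G.restrict W.ι)
  let φ : G ⟶ P := KFlatLib.unitW W G
  have hP : Coh.IsQCoh P := QCoh.isQCoh_pushforward _ (QCoh.isQCoh_restrict _ hG.1)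
  have hK : Coh.IsCoh (kernel φ) := QCoh.isCoh_of_mono (kernel.ι φ) hG (QCoh.isQCoh_kernel hG.1 hP φ)
  let G' := cokernel (kernel.ι φ)
  let q : G ⟶ G' := cokernel.π (kernel.ι φ)
  have hG' : Coh.IsCoh G' := QCoh.isCoh_cokernel hK.1 hG _
  let j : G' ⟶ P := Abelian.factorThruCoimage φ
  haveI : Mono j := inferInstanceAs (Mono (Abelian.factorThruCoimage φ))
  have hqj : q ≫ j = φ := Abelian.coimage.fac φ
  have hinj : ∀ y ∈ W, Function.Injective (sm q y) := fun y hy => by
    intro a b hab
    haveI := KFlatLib.isIso_stalk_unitW hy G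
    refine (ConcreteCategory.bijective_of_isIso ((DerSch.stalkFunctor Y y).map φ)).1 ?_
    show sm φ y a = sm φ y b
    rw [← hqj, TFOneX.sm_comp, TFOneX.sm_comp, hab]
  have htf : ∀ y : Y, Module.IsTorsionFree (Y.presheaf.stalk y) (P.presheaf.stalk y) := fun y => by
    haveI := (hY y).1
    refine Module.IsTorsionFree.of_smul_eq_zero fun a t hat => or_iff_not_imp_left.2 fun ha => ?_
    obtain ⟨V₀, hyV₀, t₀, rfl⟩ := TopCat.Presheaf.exists_germ_eq P.presheaf t
    obtain ⟨O, hyO, hO⟩ := H23.FinCondSch.exists_integral_nhd y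
    haveI := hO
    have hy1 : y ∈ V₀ ⊓ O := ⟨hyV₀, hyO⟩
    rw [← P.presheaf.germ_res_apply (homOfLE inf_le_left : V₀ ⊓ O ⟶ V₀) y hy1 t₀] at hat ⊢
    obtain ⟨V, hV, hyV, r, hr, hrt⟩ := TorLib.exists_smul_res_eq_zero P hy1 _ a hat
    rw [← P.presheaf.germ_res_apply (homOfLE hV) y hyV]
    generalize P.presheaf.map (homOfLE hV).op (P.presheaf.map (homOfLE inf_le_left).op t₀) = s at hrt ⊢
    suffices hs : s = 0 by rw [hs, map_zero]
    have hz : ∀ z (hz : z ∈ V), z ∈ W → P.presheaf.germ V z hz s = 0 := fun z hz hzW => by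
      haveI : Module.Free (Y.presheaf.stalk z) (G.presheaf.stalk z) := hzW
      haveI := KFlatLib.isIso_stalk_unitW hzW G
      let e : G.presheaf.stalk z ≃ₗ[Y.presheaf.stalk z] P.presheaf.stalk z :=
        (asIso ((DerSch.stalkFunctor Y z).map φ)).toLinearEquiv
      haveI : Module.Free (Y.presheaf.stalk z) (P.presheaf.stalk z) := Module.Free.of_equiv e
      haveI := (hY z).1
      have hrz : Y.presheaf.germ V z hz r ≠ 0 := fun h0 =>
        ha (hr.symm.trans (germ_eq_zero_of_integral (hV.trans inf_le_right) hyV hz r h0))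
      have h1 := congrArg (P.presheaf.germ V z hz) hrt
      rw [QCoh.germ_smul', map_zero] at h1
      exact (smul_eq_zero_iff_right hrz).1 h1
    have h2 : P.presheaf.map (homOfLE (inf_le_left : V ⊓ W ≤ V)).op s = 0 :=
      TopCat.Presheaf.section_ext ⟨P.presheaf, P.isSheaf⟩ _ _ _ fun z hz' => by
        show P.presheaf.germ _ z hz' _ = P.presheaf.germ _ z hz' 0
        rw [P.presheaf.germ_res_apply, map_zero]
        exact hz z hz'.1 hz'.2
    have heq : W.ι ⁻¹ᵁ V ≤ W.ι ⁻¹ᵁ (V ⊓ W) := fun z hz' => ⟨hz', z.2⟩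
    have h3 := congrArg ((G.restrict W.ι).presheaf.map (homOfLE heq).op) h2
    rw [map_zero] at h3
    refine Eq.trans ?_ h3
    exact ((congrArg (fun f => f s) ((G.restrict W.ι).presheaf.map_comp
      (homOfLE (W.ι.preimage_mono inf_le_left)).op (homOfLE heq).op)).symm.trans
      (congrArg (fun f => f s) ((G.restrict W.ι).presheaf.map_id _))).symm
  refine ⟨G', q, inferInstance, hG', QCoh.isFinLocFree_iff.2 ⟨QCoh.isCoh_iff_isFP.1 hG', fun y => ?_⟩,
    W, hWgen, hinj⟩
  haveI := (hY y).1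
  haveI := hpir y
  haveI := htf y
  haveI : Module.Finite (Y.presheaf.stalk y) (G'.presheaf.stalk y) :=
    QCoh.finite_stalk_of_isFT hG'.1 (QCoh.isFT_of_isFP (QCoh.isCoh_iff_isFP.1 hG')) y
  let g : G'.presheaf.stalk y →ₗ[Y.presheaf.stalk y] P.presheaf.stalk y := sm j y
  haveI : Module.IsTorsionFree (Y.presheaf.stalk y) (G'.presheaf.stalk y) :=
    (TFOneX.injective_sm j y).moduleIsTorsionFree (⇑g) (fun r m => map_smul g r m)
  exact Module.free_of_finite_type_torsion_free'


theorem isPrincipalIdealRing_of_normal {R : Type u} [CommRing R] [IsDomain R] [IsIntegrallyClosed R]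
    [IsLocalRing R] [IsNoetherianRing R] (h : ringKrullDim R ≤ 1) : IsPrincipalIdealRing R := by
  haveI : Ring.KrullDimLE 1 R := Ring.krullDimLE_iff.2 h
  haveI : Ring.DimensionLEOne R :=
    ⟨fun hp hP => Ideal.IsPrime.isMaximal_of_ne_bot hP hp⟩
  haveI : IsDedekindRing R := { }
  haveI : IsDedekindDomain R := { }
  exact IsPrincipalIdealRing.of_finite_maximals (by
    rw [show {I : Ideal R | I.IsMaximal} = {IsLocalRing.maximalIdeal R} from Set.ext fun I =>
      ⟨fun hI => IsLocalRing.eq_maximalIdeal hI, fun hI => hI ▸ IsLocalRing.maximalIdeal.isMaximal R⟩]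
    exact Set.finite_singleton _)

variable {X : Scheme.{u}}

/-- An affine map whose unit is bijective on the stalks over an open is an isomorphism there. -/
theorem isIso_restrict_of_stalk (π : Y ⟶ X) [IsAffineHom π] (U : X.Opens)
    (h : ∀ x ∈ U, Function.Bijective (sm (ClSub.unitToPush π) x)) : IsIso (π ∣_ U) := by
  let P := (Scheme.Modules.pushforward π).obj (Coh.structureModule Y)
  have happ : ∀ V : X.Opens, V ≤ U → IsIso (π.app V) := fun V hV => by
    refine (ConcreteCategory.isIso_iff_bijective _).2 ?_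
    have h1 := TopCat.Presheaf.app_bijective_of_stalkFunctor_map_bijective
      (F := ⟨(Coh.structureModule X).presheaf, (Coh.structureModule X).isSheaf⟩)
      (G := ⟨P.presheaf, P.isSheaf⟩)
      ⟨(Scheme.Modules.toPresheaf X).map (ClSub.unitToPush π)⟩ V fun x hx => h x (hV hx)
    exact h1
  refine HasAffineProperty.of_iSup_eq_top (P := MorphismProperty.isomorphisms Scheme)
    (fun i : U.toScheme.affineOpens => i) (iSup_affineOpens_eq_top _) fun i => ?_
  haveI : IsAffineHom (π ∣_ U) := IsZariskiLocalAtTarget.restrict ‹IsAffineHom π› U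
  refine ⟨i.2.preimage (π ∣_ U), ?_⟩
  haveI := happ (U.ι ''ᵁ (i.1.ι ''ᵁ ⊤)) (by rintro _ ⟨z, -, rfl⟩; exact z.2)
  show IsIso (((π ∣_ U) ∣_ i.1).app ⊤)
  rw [morphismRestrict_app, morphismRestrict_app]
  exact IsIso.comp_isIso' (IsIso.comp_isIso' ‹_› inferInstance) inferInstance

theorem isIso_unit_of_isIso (g : Y ⟶ X) [IsIso g] (M : X.Modules) :
    IsIso ((Scheme.Modules.pullbackPushforwardAdjunction g).unit.app M) := by
  haveI := Nrm6.isEquivalence_pushforward g
  haveI : (Scheme.Modules.pullback g).IsEquivalence :=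
    (Scheme.Modules.pullbackPushforwardAdjunction g).isEquivalence_left_of_isEquivalence_right
  infer_instance

theorem isIso_sm_unit (π : Y ⟶ X) {O : X.Opens} [IsIso (π ∣_ O)] {x : X} (hx : x ∈ O) (M : X.Modules) :
    IsIso ((DerSch.stalkFunctor X x).map ((Scheme.Modules.pullbackPushforwardAdjunction π).unit.app M)) :=
  KFlatLib.isIso_stalk_of_restrict _ hx
    (H23.PullPush.isIso_restrict_unit π O M (isIso_unit_of_isIso (π ∣_ O) _))

theorem surjective_sm_push (π : Y ⟶ X) {O : X.Opens} [IsIso (π ∣_ O)] {x : X} (hx : x ∈ O)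
    {M N : Y.Modules} (q : M ⟶ N) [Epi q] :
    Function.Surjective (sm ((Scheme.Modules.pushforward π).map q) x) := by
  intro b
  obtain ⟨V, hxV, s, rfl⟩ := TopCat.Presheaf.exists_germ_eq
    ((Scheme.Modules.pushforward π).obj N).presheaf b
  let e := Scheme.Hom.homeomorph (π ∣_ O)
  obtain ⟨⟨y, hyO⟩, he⟩ := e.surjective ⟨x, hx⟩
  obtain rfl : π y = x :=
    (morphismRestrict_base_coe π O ⟨y, hyO⟩).symm.trans (congrArg Subtype.val he)
  obtain ⟨a, ha⟩ := TFOneX.surjective_sm q y (N.presheaf.germ (π ⁻¹ᵁ V) y hxV s)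
  obtain ⟨W, hyW, m, rfl⟩ := TopCat.Presheaf.exists_germ_eq M.presheaf a
  obtain ⟨W', hyW', i₁, i₂, hW'⟩ := N.presheaf.germ_eq y hyW hxV (q.app W m) s
    ((DerSch.stalkFunctor_map_germ y q W hyW m).symm.trans ha)
  let j := (π ∣_ O) ≫ O.ι
  haveI : IsOpenImmersion j := IsOpenImmersion.comp _ _
  let V' : X.Opens := j ''ᵁ ((π ⁻¹ᵁ O).ι ⁻¹ᵁ W')
  have hjπ : ∀ z : (π ⁻¹ᵁ O : Y.Opens), j z = π z.1 := fun z => morphismRestrict_base_coe π O z
  have hxV' : π y ∈ V' := ⟨⟨y, hyO⟩, hyW', hjπ _⟩
  have hpre : π ⁻¹ᵁ V' ≤ W' := by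
    rintro z ⟨w, hw, hwz⟩
    have hzO : π z ∈ O := hwz ▸ ((π ∣_ O) w).2
    have hw' : w = ⟨z, hzO⟩ := j.isOpenEmbedding.injective (hwz.trans (hjπ ⟨z, hzO⟩).symm)
    subst hw'
    exact hw
  have hle : V' ⊓ V ≤ V := inf_le_right
  have hxx : π y ∈ V' ⊓ V := ⟨hxV', hxV⟩
  have hpre' : π ⁻¹ᵁ (V' ⊓ V) ≤ W' := fun z hz => hpre hz.1
  refine ⟨((Scheme.Modules.pushforward π).obj M).presheaf.germ (V' ⊓ V) (π y) hxx
    (M.presheaf.map (homOfLE (hpre'.trans i₁.le)).op m), ?_⟩
  refine (DerSch.stalkFunctor_map_germ (π y) ((Scheme.Modules.pushforward π).map q) (V' ⊓ V) hxx _).trans ?_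
  rw [← TopCat.Presheaf.germ_res_apply ((Scheme.Modules.pushforward π).obj N).presheaf
    (homOfLE hle) (π y) hxx s]
  refine congrArg _ ?_
  have h2 := congrArg (N.presheaf.map (homOfLE hpre').op) hW'
  refine Eq.trans ?_ (h2.trans ?_)
  · refine (congrArg (fun f => f m) (q.mapPresheaf.naturality (homOfLE (hpre'.trans i₁.le)).op)).trans ?_
    exact congrArg (fun f => f (q.app W m)) (N.presheaf.map_comp i₁.op (homOfLE hpre').op)
  · exact (congrArg (fun f => f s) (N.presheaf.map_comp i₂.op (homOfLE hpre').op)).symm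

/-- Where the upper scheme's open contains the preimage, injectivity of stalks pushes forward. -/
theorem injective_sm_push (π : Y ⟶ X) {M N : Y.Modules} (q : M ⟶ N) {O : X.Opens} {x : X} (hx : x ∈ O)
    (h : ∀ y, π y ∈ O → Function.Injective (sm q y)) :
    Function.Injective (sm ((Scheme.Modules.pushforward π).map q) x) := by
  refine (injective_iff_map_eq_zero _).2 fun t ht => ?_
  obtain ⟨V₀, hxV₀, s₀, rfl⟩ := TopCat.Presheaf.exists_germ_eq
    ((Scheme.Modules.pushforward π).obj M).presheaf t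
  have hx1 : x ∈ V₀ ⊓ O := ⟨hxV₀, hx⟩
  rw [← TopCat.Presheaf.germ_res_apply ((Scheme.Modules.pushforward π).obj M).presheaf
    (homOfLE inf_le_left : V₀ ⊓ O ⟶ V₀) x hx1 s₀] at ht ⊢
  generalize ((Scheme.Modules.pushforward π).obj M).presheaf.map
    (homOfLE inf_le_left : V₀ ⊓ O ⟶ V₀).op s₀ = s at ht ⊢
  rw [show sm ((Scheme.Modules.pushforward π).map q) x _ = _ from
    DerSch.stalkFunctor_map_germ x ((Scheme.Modules.pushforward π).map q) (V₀ ⊓ O) hx1 s] at ht
  obtain ⟨V, hxV, i, _, hV⟩ := ((Scheme.Modules.pushforward π).obj N).presheaf.germ_eq x hx1 hx1 _ 0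
    (ht.trans (map_zero _).symm)
  rw [map_zero] at hV
  rw [← TopCat.Presheaf.germ_res_apply ((Scheme.Modules.pushforward π).obj M).presheaf i x hxV s]
  suffices h0 : ((Scheme.Modules.pushforward π).obj M).presheaf.map i.op s = 0 by rw [h0, map_zero]
  have hn : ((Scheme.Modules.pushforward π).map q).app V
      (((Scheme.Modules.pushforward π).obj M).presheaf.map i.op s) = 0 :=
    ((congrArg (fun f => f s) (((Scheme.Modules.pushforward π).map q).mapPresheaf.naturality i.op)).trans hV :)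
  refine TopCat.Presheaf.section_ext ⟨M.presheaf, M.isSheaf⟩ (π ⁻¹ᵁ V) _ _ fun y hy => ?_
  show M.presheaf.germ (π ⁻¹ᵁ V) y hy _ = M.presheaf.germ (π ⁻¹ᵁ V) y hy 0
  rw [map_zero]
  refine h y ((i.le hy).2) ?_
  rw [map_zero]
  refine (DerSch.stalkFunctor_map_germ y q (π ⁻¹ᵁ V) hy _).trans ?_
  exact (congrArg (N.presheaf.germ (π ⁻¹ᵁ V) y hy) hn).trans (map_zero _)

variable (k : Type u) [Field k] [IsAlgClosed k] [X.Over (Spec (CommRingCat.of k))]
  [IsProper (X ↘ Spec (CommRingCat.of k))] (π : Y ⟶ X) [IsFinite π]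

include k in
/-- The cokernel of the unit lives at the nodes. -/
theorem node_of_mem_support (hequi : ∀ Z ∈ irreducibleComponents (X : Type u), topologicalKrullDim Z = 1)
    (hX : Curv2.AtWorstNodal k X) (hY : Pi1.IsNormalScheme Y) {U : X.Opens} (hU : Dense (U : Set X))
    (hU' : Dense ((π ⁻¹ᵁ U : Y.Opens) : Set Y)) [IsIso (π ∣_ U)] {x : X}
    (hxQ : x ∈ CohB1.support (cokernel (ClSub.unitToPush π))) : Curv2.IsNode k X x := by
  haveI := CurveCohLib.isNoetherian_of_proper (k := k) (X := X)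
  have hdim : topologicalKrullDim X ≤ 1 := TFOneX.dim_le_one hequi
  have hN : NodeFam.NodalCurve (X ↘ Spec (CommRingCat.of k)) := ⟨hequi, hX⟩
  haveI : ∀ x : X, _root_.IsReduced (X.presheaf.stalk x) := fun x => (hN.reduced_gorenstein x).1
  haveI : AlgebraicGeometry.IsReduced X := isReduced_of_isReduced_stalk X
  have hxU : x ∉ U := fun hxU => by
    haveI := GenusLe.epi_stalk_unit π hxU
    exact hxQ (ModuleCat.subsingleton_of_isZero ((isZero_cokernel_of_epi
      ((DerSch.stalkFunctor X x).map (ClSub.unitToPush π))).of_iso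
        (PreservesCokernel.iso (DerSch.stalkFunctor X x) (ClSub.unitToPush π))))
  by_contra hn
  obtain ⟨V, hxV, hs⟩ := (hX x (GenusLe.isClosed_of_notMem_dense hdim hU hxU)).resolve_right hn
  haveI := (SmoothReg.mem_smoothLocus_iff_isRegularLocalRing (X ↘ Spec (CommRingCat.of k)) x).1
    ((NodeFam.exists_smooth_nhd_iff _ x).1 ⟨V, hxV, hs⟩)
  haveI := RegLoc6.isDomain_of_isRegularLocalRing (X.presheaf.stalk x)
  haveI := DimFormula.isPrincipalIdealRing_of_regular_dim_le_one (R := X.presheaf.stalk x)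
    ((CurveCohLib.ringKrullDim_stalk_le_topologicalKrullDim x).trans hdim)
  obtain ⟨-, hlen, -⟩ := CurveGor.Delta.length_coker_eq π hY hU hU' x
  refine hxQ (Module.length_eq_zero_iff.1 (hlen.trans ?_))
  rw [Curv2.deltaInv, Module.length_eq_zero_iff, Submodule.Quotient.subsingleton_iff, LinearMap.range_eq_top]
  intro z
  obtain ⟨a, ha⟩ := IsIntegrallyClosed.isIntegral_iff.1 z.2
  exact ⟨a, Subtype.ext ha⟩

include k in
/-- The theorem. -/
theorem exists_bundle (hequi : ∀ Z ∈ irreducibleComponents (X : Type u), topologicalKrullDim Z = 1)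
    (hX : Curv2.AtWorstNodal k X) (hY : Pi1.IsNormalScheme Y) (U : X.Opens) (hU : Dense (U : Set X))
    (hU' : Dense ((π ⁻¹ᵁ U : Y.Opens) : Set Y)) [IsIso (π ∣_ U)]
    (F : X.Modules) (hF : Coh.IsCoh F) (hpure : ShStab.IsPure X F 1) :
    ∃ (F' : Y.Modules) (f : F ⟶ (Scheme.Modules.pushforward π).obj F'),
      Coh.IsCoh F' ∧ FlatMod.IsFinLocFree F' ∧ Mono f ∧
        CohB1.support (cokernel f) ⊆ {x : X | Curv2.IsNode k X x} := by
  classical
  haveI := CurveCohLib.isNoetherian_of_proper (k := k) (X := X)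
  have hdim : topologicalKrullDim X ≤ 1 := TFOneX.dim_le_one hequi
  have hN : NodeFam.NodalCurve (X ↘ Spec (CommRingCat.of k)) := ⟨hequi, hX⟩
  haveI : ∀ x : X, _root_.IsReduced (X.presheaf.stalk x) := fun x => (hN.reduced_gorenstein x).1
  haveI : AlgebraicGeometry.IsReduced X := isReduced_of_isReduced_stalk X
  haveI : IsNoetherian Y :=
    { toIsLocallyNoetherian := LocallyOfFiniteType.isLocallyNoetherian π
      toCompactSpace := QuasiCompact.compactSpace_of_compactSpace π }
  have hYdim : topologicalKrullDim Y ≤ 1 := by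
    rw [topologicalKrullDim, Order.krullDim_eq_of_orderIso (irreducibleSetEquivPoints (α := Y))]
    refine iSup_le fun l => ?_
    have h1 : (Order.coheight l.head : WithBot ℕ∞) ≤ 1 := by
      rw [← ringKrullDim_stalk_eq_coheight]
      exact (NormGeomReg.ringKrullDim_stalk_le π _).trans
        ((CurveCohLib.ringKrullDim_stalk_le_topologicalKrullDim _).trans hdim)
    exact le_trans (WithBot.coe_le_coe.2 (Order.length_le_coheight le_rfl)) h1
  have hpir : ∀ y : Y, IsPrincipalIdealRing (Y.presheaf.stalk y) := fun y => by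
    haveI := (hY y).1; haveI := (hY y).2
    exact isPrincipalIdealRing_of_normal
      ((CurveCohLib.ringKrullDim_stalk_le_topologicalKrullDim _).trans hYdim)
  let G := (Scheme.Modules.pullback π).obj F
  obtain ⟨F', q, hq, hF', hfree, W, hWgen, hWinj⟩ := exists_tf_quotient hY hpir (ZClosLib.isCoh_pullback π hF)
  let f := (Scheme.Modules.pullbackPushforwardAdjunction π).unit.app F ≫ (Scheme.Modules.pushforward π).map q
  -- the points of `Y` off `W` are closed
  have hWcl : ∀ y : Y, y ∉ W → IsClosed ({y} : Set Y) := fun y hy => by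
    haveI : AlgebraicGeometry.IsReduced Y := by
      haveI : ∀ y : Y, _root_.IsReduced (Y.presheaf.stalk y) := fun y => by haveI := (hY y).1; infer_instance
      exact isReduced_of_isReduced_stalk Y
    refine TFOneX.isClosed_singleton_of_notMem hYdim fun hg => hy (hWgen y fun y' h => ?_)
    exact (h.antisymm (specializes_iff_closure_subset.2
      (hg.2 isIrreducible_singleton.closure (specializes_iff_closure_subset.1 h)))).eq
  have hng : ∀ x : X, IsClosed ({x} : Set X) → x ∉ genericPoints (X : Type u) := fun x hx hg => by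
    have h1 := hequi _ hg
    rw [hx.closure_eq] at h1
    have h2 : topologicalKrullDim ({x} : Set X) ≤ 0 := topologicalKrullDim_zero_of_discreteTopology _
    rw [h1] at h2
    exact absurd h2 (by norm_num)
  let T : Set X := π '' ((W : Set Y)ᶜ)
  have hT : IsClosed T := π.isClosedMap _ W.2.isClosed_compl
  let U₂ : X.Opens := U ⊓ ⟨Tᶜ, hT.isOpen_compl⟩
  have hU₂ : ∀ x, x ∉ U₂ → IsClosed ({x} : Set X) := fun x hx => by
    by_cases hxU : x ∈ U
    · obtain ⟨y, hy, rfl⟩ : x ∈ T := by
        by_contra h; exact hx ⟨hxU, h⟩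
      have := π.isClosedMap _ (hWcl y hy)
      rwa [Set.image_singleton] at this
    · exact GenusLe.isClosed_of_notMem_dense hdim hU hxU
  -- injectivity
  haveI : Mono f := by
    refine Preadditive.mono_of_isZero_kernel _ ?_
    by_contra hne
    have hK : Coh.IsCoh (kernel f) := QCoh.isCoh_kernel hF (QCoh.isCoh_pushforward_finite π hF') f
    have hsub : CohB1.support (kernel f) ⊆ {x | IsClosed ({x} : Set X)} := fun x hx => by
      by_contra hnc
      have hxU₂ : x ∈ U₂ := by by_contra h; exact hnc (hU₂ x h)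
      refine TFOneX.subsingleton_kernel f x (fun a b hab => ?_) hx
      haveI := isIso_sm_unit π (O := U) hxU₂.1 F
      refine (ConcreteCategory.bijective_of_isIso ((DerSch.stalkFunctor X x).map
        ((Scheme.Modules.pullbackPushforwardAdjunction π).unit.app F))).1 ?_
      refine injective_sm_push π q (O := U₂) hxU₂ (fun y hy => hWinj y ?_) ?_
      · by_contra h
        exact hy.2 ⟨y, h, rfl⟩
      · exact (TFOneX.sm_comp _ _ x a).symm.trans (hab.trans (TFOneX.sm_comp _ _ x b))
    have hfin := CurveCohLib.finite_of_closedPoints (QCoh.isClosed_support_of_isFT hK.1 hK.2) fun x hx => hsub hx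
    haveI := hfin.to_subtype
    haveI : T1Space (CohB1.support (kernel f)) := ⟨fun z => by
      have : ({z} : Set (CohB1.support (kernel f))) = Subtype.val ⁻¹' {z.1} := by
        ext w; simp [Subtype.ext_iff]
      rw [this]; exact (hsub z.2).preimage continuous_subtype_val⟩
    have h0 : topologicalKrullDim (CohB1.support (kernel f)) ≤ 0 := topologicalKrullDim_zero_of_discreteTopology _
    rw [hpure (kernel f) (kernel.ι f) inferInstance hK hne] at h0
    exact absurd h0 (by norm_num)
  refine ⟨F', f, hF', hfree, inferInstance, fun x hx => ?_⟩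
  show Curv2.IsNode k X x
  by_contra hxn
  -- the open of non-nodes
  let Q := cokernel (ClSub.unitToPush π)
  have hQ : Coh.IsCoh Q := QCoh.isCoh_cokernel QCoh.isQCoh_structureModule
    (QCoh.isCoh_pushforward_finite π QCoh.isCoh_structureModule') _
  let C₀ : X.Opens := ⟨(CohB1.support Q)ᶜ, (QCoh.isClosed_support_of_isFT hQ.1 hQ.2).isOpen_compl⟩
  have hbij : ∀ z ∈ C₀, Function.Bijective (sm (ClSub.unitToPush π) z) := fun z hz => by
    refine ⟨(CurveGor.Delta.length_coker_eq π hY hU hU' z).1, ?_⟩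
    haveI : Subsingleton ((DerSch.stalkFunctor X z).obj Q : Type u) := TFOneX.notMem_support_iff.1 hz
    haveI : Epi ((DerSch.stalkFunctor X z).map (ClSub.unitToPush π)) :=
      Preadditive.epi_of_isZero_cokernel _ ((ModuleCat.isZero_of_subsingleton
        ((DerSch.stalkFunctor X z).obj Q) : IsZero _).of_iso
          (PreservesCokernel.iso (DerSch.stalkFunctor X z) (ClSub.unitToPush π)).symm)
    exact (ModuleCat.epi_iff_surjective _).1 inferInstance
  haveI := isIso_restrict_of_stalk π C₀ hbij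
  have hxC : x ∈ C₀ := fun hxQ => hxn (node_of_mem_support k π hequi hX hY hU hU' hxQ)
  haveI := isIso_sm_unit π hxC F
  have hsurj : Function.Surjective (sm f x) := by
    intro b
    obtain ⟨m, rfl⟩ := surjective_sm_push π hxC q b
    obtain ⟨a, rfl⟩ := (ConcreteCategory.bijective_of_isIso ((DerSch.stalkFunctor X x).map
      ((Scheme.Modules.pullbackPushforwardAdjunction π).unit.app F))).2 m
    exact ⟨a, TFOneX.sm_comp _ _ x a⟩
  haveI : Epi ((DerSch.stalkFunctor X x).map f) := (ModuleCat.epi_iff_surjective _).2 hsurj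
  exact hx (ModuleCat.subsingleton_of_isZero ((isZero_cokernel_of_epi ((DerSch.stalkFunctor X x).map f)).of_iso
    (PreservesCokernel.iso (DerSch.stalkFunctor X x) f)))

end Groth.Agent.CurvePure22
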